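import Cfsg.Agent.H45.UniE.Curtis

/-!
# The lowest component of a function fixed by twisted root elements (helper261, for S3635)

`K` is a field with `2 ^ (2 m + 1)` elements, `r = 2 ^ (m + 1)`. If a function `F` in `L` is fixed by all
`z_a (t) z_b (t ^ r)` (or `z_a (t) z_b (t ^ r) z_c (t ^ (1 + r))`), `t ∈ K`, then the lowest component of `F` is killed by
`X_a ^ j X_b ^ i`, `i < 2 ^ m`, `j < 2 ^ (m + 1)`, `(i, j) ≠ (0, 0)`.
-/

set_option autoImplicit false
set_option linter.unusedSectionVars false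

namespace Cfsg.Agent.H261.TU.Low

open Polynomial Finset Cfsg.Agent.H45.Uni Cfsg.Agent.H45.UniE

/-! ### arithmetic -/

theorem uniqZ {Q ha hb i j i' j' w : ℤ} (hQ : 0 < Q) (h1 : ha < Q * hb) (h2 : hb < 2 * Q * ha)
    (hi : i < Q) (hj : j < 2 * Q) (hi' : 0 ≤ i') (hj' : 0 ≤ j')
    (hw : j' + 2 * Q * i' - (j + 2 * Q * i) = (2 * Q ^ 2 - 1) * w) (hne : ¬ (i' = 0 ∧ j' = 0))
    (hc : ha * j' + hb * i' ≤ ha * j + hb * i) : i' = i ∧ j' = j := by
  obtain ⟨v, hv⟩ : ∃ v : ℤ, v = Q * w - (i' - i) := ⟨_, rfl⟩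
  have e1 : i' = i + Q * w - v := by rw [hv]; ring
  have e2 : j' = j - w + 2 * Q * v := by
    have : j' = j + (2 * Q ^ 2 - 1) * w - 2 * Q * (i' - i) := by linear_combination hw
    rw [this, hv]
    ring
  have e3 : w * (Q * hb - ha) + v * (2 * Q * ha - hb) ≤ 0 := by
    have : w * (Q * hb - ha) + v * (2 * Q * ha - hb) = ha * j' + hb * i' - (ha * j + hb * i) := by
      rw [e1, e2]; ring
    rw [this]
    linarith
  by_cases hw0 : 0 ≤ w
  · by_cases hv0 : 0 ≤ v
    · have ha' : 0 < Q * hb - ha := by linarith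
      have hb' : 0 < 2 * Q * ha - hb := by linarith
      have f1 : 0 ≤ w * (Q * hb - ha) := mul_nonneg hw0 ha'.le
      have f2 : 0 ≤ v * (2 * Q * ha - hb) := mul_nonneg hv0 hb'.le
      have f3 : w = 0 := by
        by_contra h
        have : 0 < w * (Q * hb - ha) := mul_pos (lt_of_le_of_ne hw0 (Ne.symm h)) ha'
        linarith
      have f4 : v = 0 := by
        by_contra h
        have : 0 < v * (2 * Q * ha - hb) := mul_pos (lt_of_le_of_ne hv0 (Ne.symm h)) hb'
        linarith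
      rw [f3, f4] at e1 e2
      exact ⟨by linarith, by linarith⟩
    · exfalso
      have hv1 : v ≤ -1 := by omega
      have : 2 * Q * v ≤ 2 * Q * (-1) := mul_le_mul_of_nonneg_left hv1 (by linarith)
      linarith
  · exfalso
    have hw1 : w ≤ -1 := by omega
    have f1 : v ≤ Q - 1 + Q * w := by linarith
    have f2 : 2 * Q * v ≤ 2 * Q * (Q - 1 + Q * w) := mul_le_mul_of_nonneg_left f1 (by linarith)
    have f3 : j' ≤ (1 + w) * (2 * Q ^ 2 - 1) := by
      have : (1 + w) * (2 * Q ^ 2 - 1) = (2 * Q - 1) - w + 2 * Q * (Q - 1 + Q * w) := by ring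
      rw [this]
      linarith
    have hQ2 : 0 < 2 * Q ^ 2 - 1 := by nlinarith
    have f4 : w = -1 := by
      by_contra h
      have h5 : 1 + w < 0 := by omega
      have : (1 + w) * (2 * Q ^ 2 - 1) < 0 := mul_neg_of_neg_of_pos h5 hQ2
      linarith
    rw [f4] at f3 e1 e2 f1
    have f5 : j' = 0 := by linarith
    apply hne
    refine ⟨?_, f5⟩
    -- `2 Q v = j' - j - 1 ≥ - 2 Q`
    have f6 : 2 * Q * v = j' - j - 1 := by linarith
    have f7 : -1 ≤ v := by
      by_contra h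
      have h8 : v ≤ -2 := by omega
      have : 2 * Q * v ≤ 2 * Q * (-2) := mul_le_mul_of_nonneg_left h8 (by linarith)
      linarith
    linarith

theorem uniq {m ha hb i j i' j' : ℕ} (h1 : ha < 2 ^ m * hb) (h2 : hb < 2 ^ (m + 1) * ha) (hi : i < 2 ^ m)
    (hj : j < 2 ^ (m + 1)) (hd : 2 ^ (2 * m + 1) - 1 ∣ j' + 2 ^ (m + 1) * i' + (2 ^ (2 * m + 1) - 1 - (j + 2 ^ (m + 1) * i)))
    (hne : ¬ (i' = 0 ∧ j' = 0)) (hc : ha * j' + hb * i' ≤ ha * j + hb * i) : i' = i ∧ j' = j := by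
  have hpos : 0 < 2 ^ m := Nat.two_pow_pos m
  have e1 : 2 ^ (m + 1) = 2 * 2 ^ m := by rw [pow_succ]; ring
  have e2 : 2 ^ (2 * m + 1) = 2 * (2 ^ m) ^ 2 := by rw [pow_succ, two_mul, pow_add]; ring
  rw [e1] at h2 hj hd
  rw [e2] at hd
  obtain ⟨w, hw⟩ := hd
  have hle : j + 2 * 2 ^ m * i ≤ 2 * (2 ^ m) ^ 2 - 1 := by
    obtain ⟨Q, hQ⟩ : ∃ Q, 2 ^ m = Q := ⟨_, rfl⟩
    rw [hQ] at hi hj hpos ⊢
    have h3 : 2 * Q * i ≤ 2 * Q * (Q - 1) := Nat.mul_le_mul_left _ (by omega)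
    have h4 : 2 * Q * (Q - 1) + 2 * Q = 2 * Q ^ 2 := by
      obtain ⟨k, rfl⟩ : ∃ k, Q = k + 1 := ⟨Q - 1, by omega⟩
      rw [Nat.add_sub_cancel]
      ring
    omega
  have h1' : 1 ≤ 2 * (2 ^ m) ^ 2 := by
    have : 0 < (2 ^ m) ^ 2 := by positivity
    omega
  have hw' : ((j' : ℤ) + 2 * 2 ^ m * i') - (j + 2 * 2 ^ m * i) = (2 * ((2 : ℤ) ^ m) ^ 2 - 1) * ((w : ℤ) - 1) := by
    have h5 := congrArg (fun x : ℕ => (x : ℤ)) hw
    push_cast [Nat.cast_sub hle, Nat.cast_sub h1'] at h5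
    linear_combination h5
  have h6 := uniqZ (Q := (2 : ℤ) ^ m) (ha := ha) (hb := hb) (i := i) (j := j) (i' := i') (j' := j') (w := (w : ℤ) - 1)
    (by positivity) (by exact_mod_cast h1) (by exact_mod_cast h2) (by exact_mod_cast hi) (by exact_mod_cast hj)
    (by positivity) (by positivity) hw' (fun h => hne ⟨by exact_mod_cast h.1, by exact_mod_cast h.2⟩)
    (by exact_mod_cast hc)
  exact ⟨by exact_mod_cast h6.1, by exact_mod_cast h6.2⟩

/-! ### comparison of coefficients -/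

/-- **the comparison** -/
theorem comp {k K : Type*} [Field k] [Infinite k] [Field K] [Fintype K] [Algebra K k] {m : ℕ}
    (hK : Fintype.card K = 2 ^ (2 * m + 1)) {ha hb : ℕ} (h1 : ha < 2 ^ m * hb) (h2 : hb < 2 ^ (m + 1) * ha)
    {Ω : Type*} (S : Finset Ω) (A : Ω → k) (ν ii jj : Ω → ℕ) (R : k[X])
    (h : ∀ (t : K) (u : kˣ), ∑ ω ∈ S, A ω * (u : k) ^ (ν ω + ha * jj ω + hb * ii ω) *
      (algebraMap K k t) ^ (jj ω + 2 ^ (m + 1) * ii ω) = R.eval (u : k))
    {n : ℕ} (hlow : ∀ ω ∈ S, ν ω < n → A ω = 0) {i j : ℕ} (hi : i < 2 ^ m) (hj : j < 2 ^ (m + 1))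
    (h0 : ¬ (i = 0 ∧ j = 0)) :
    ∑ ω ∈ S with (ν ω = n ∧ ii ω = i ∧ jj ω = j), A ω = 0 := by
  classical
  let e := n + ha * j + hb * i
  let E : Ω → ℕ := fun ω => ν ω + ha * jj ω + hb * ii ω
  let x : Ω → ℕ := fun ω => jj ω + 2 ^ (m + 1) * ii ω
  -- the coefficient of `u ^ e`
  have hc : ∀ t : K, ∑ ω ∈ S, (if E ω = e then A ω * (algebraMap K k t) ^ x ω else 0) = R.coeff e := by
    intro t
    have hP : ∑ ω ∈ S, C (A ω * (algebraMap K k t) ^ x ω) * (X : k[X]) ^ E ω = R := by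
      apply DatR.pol_ext
      intro u
      rw [← h t u, eval_finsetSum]
      refine Finset.sum_congr rfl fun ω _ => ?_
      rw [eval_mul, eval_C, eval_pow, eval_X]
      ring
    rw [← hP, finsetSum_coeff]
    refine Finset.sum_congr rfl fun ω _ => ?_
    rw [coeff_C_mul, coeff_X_pow]
    by_cases he : E ω = e
    · rw [if_pos he, if_pos he.symm, mul_one]
    · rw [if_neg he, if_neg (Ne.symm he), mul_zero]
  have hd : ∀ t : K, ∑ ω ∈ S, (if E ω = e then A ω * ((algebraMap K k t) ^ x ω - (algebraMap K k 0) ^ x ω) else 0) = 0 := by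
    intro t
    have h3 := (hc t).trans (hc 0).symm
    rw [← sub_eq_zero, ← Finset.sum_sub_distrib] at h3
    refine Eq.trans (Finset.sum_congr rfl fun ω _ => ?_) h3
    split_ifs
    · ring
    · ring
  -- sum over the units
  let q1 := 2 ^ (2 * m + 1) - 1
  let f := q1 - (j + 2 ^ (m + 1) * i)
  have hs : ∀ l : ℕ, ∑ t : Kˣ, (algebraMap K k (t : K)) ^ l = if q1 ∣ l then -1 else 0 := by
    intro l
    have h4 := FiniteField.sum_pow_units K l
    rw [hK] at h4
    have h5 := congrArg (algebraMap K k) h4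
    rw [map_sum] at h5
    simp only [map_pow] at h5
    rw [h5]
    by_cases hl : q1 ∣ l
    · rw [if_pos hl, if_pos hl, map_neg, map_one]
    · rw [if_neg hl, if_neg hl, map_zero]
  have h3 : ∑ t : Kˣ, (algebraMap K k (t : K)) ^ f * ∑ ω ∈ S, (if E ω = e then
      A ω * ((algebraMap K k (t : K)) ^ x ω - (algebraMap K k 0) ^ x ω) else 0) = 0 :=
    Finset.sum_eq_zero fun t _ => by rw [hd, mul_zero]
  simp only [Finset.mul_sum] at h3
  rw [Finset.sum_comm] at h3
  have h4 : ∀ ω ∈ S, (∑ t : Kˣ, (algebraMap K k (t : K)) ^ f * (if E ω = e then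
      A ω * ((algebraMap K k (t : K)) ^ x ω - (algebraMap K k 0) ^ x ω) else 0)) =
      if (ν ω = n ∧ ii ω = i ∧ jj ω = j) then - A ω else 0 := by
    intro ω hω
    by_cases he : E ω = e
    · simp only [if_pos he]
      by_cases hx : x ω = 0
      · have hx' : jj ω + 2 ^ (m + 1) * ii ω = 0 := hx
        have hj0 : jj ω = 0 := by omega
        have hi0 : ii ω = 0 := by
          rcases Nat.mul_eq_zero.1 (show 2 ^ (m + 1) * ii ω = 0 by omega) with h5 | h5
          · exact absurd h5 (Nat.two_pow_pos _).ne'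
          · exact h5
        rw [if_neg (fun h5 => h0 ⟨h5.2.1.symm.trans hi0, h5.2.2.symm.trans hj0⟩)]
        refine Finset.sum_eq_zero fun t _ => ?_
        rw [hx, pow_zero, pow_zero, sub_self, mul_zero, mul_zero]
      · have h5 : ∑ t : Kˣ, (algebraMap K k (t : K)) ^ f * (A ω * ((algebraMap K k (t : K)) ^ x ω - (algebraMap K k 0) ^ x ω))
            = A ω * ∑ t : Kˣ, (algebraMap K k (t : K)) ^ (x ω + f) := by
          rw [Finset.mul_sum]
          refine Finset.sum_congr rfl fun t _ => ?_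
          rw [map_zero, zero_pow hx, pow_add]
          ring
        rw [h5, hs]
        by_cases hg : ν ω = n ∧ ii ω = i ∧ jj ω = j
        · rw [if_pos hg, if_pos, mul_neg, mul_one]
          have hle : j + 2 ^ (m + 1) * i ≤ q1 := by
            have e1 : 2 ^ (m + 1) = 2 * 2 ^ m := by rw [pow_succ]; ring
            have e2 : 2 ^ (2 * m + 1) = 2 * (2 ^ m) ^ 2 := by rw [pow_succ, two_mul, pow_add]; ring
            change j + 2 ^ (m + 1) * i ≤ 2 ^ (2 * m + 1) - 1
            rw [e1] at hj ⊢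
            rw [e2]
            have hpos : 0 < 2 ^ m := Nat.two_pow_pos m
            obtain ⟨Q, hQ⟩ : ∃ Q, 2 ^ m = Q := ⟨_, rfl⟩
            rw [hQ] at hi hj hpos ⊢
            have h3 : 2 * Q * i ≤ 2 * Q * (Q - 1) := Nat.mul_le_mul_left _ (by omega)
            have h4 : 2 * Q * (Q - 1) + 2 * Q = 2 * Q ^ 2 := by
              obtain ⟨k, rfl⟩ : ∃ k, Q = k + 1 := ⟨Q - 1, by omega⟩
              rw [Nat.add_sub_cancel]
              ring
            omega
          have h6 : x ω + f = q1 := by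
            change jj ω + 2 ^ (m + 1) * ii ω + (q1 - (j + 2 ^ (m + 1) * i)) = q1
            rw [hg.2.1, hg.2.2]
            omega
          rw [h6]
        · rw [if_neg hg]
          by_cases hν : ν ω < n
          · rw [hlow ω hω hν, zero_mul]
          · rw [if_neg, mul_zero]
            intro hdv
            apply hg
            have he' : ν ω + ha * jj ω + hb * ii ω = n + ha * j + hb * i := he
            have h6 := uniq h1 h2 hi hj hdv (fun h7 => hx (by
              change jj ω + 2 ^ (m + 1) * ii ω = 0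
              rw [h7.1, h7.2, mul_zero, add_zero])) (by omega)
            refine ⟨?_, h6.1, h6.2⟩
            rw [h6.1, h6.2] at he'
            omega
    · simp only [if_neg he, mul_zero, Finset.sum_const_zero]
      rw [if_neg]
      rintro ⟨h5, h6, h7⟩
      apply he
      change ν ω + ha * jj ω + hb * ii ω = n + ha * j + hb * i
      rw [h5, h6, h7]
  rw [Finset.sum_congr rfl h4, ← Finset.sum_filter, Finset.sum_neg_distrib, neg_eq_zero] at h3
  exact h3

/-! ### the lowest component -/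

section low

variable {ι Φ k G : Type*} [Field k] [Group G] [Infinite k] (D : DatR ι Φ k G)

theorem X_big {F : G → k} (hF : F ∈ D.L) (b : Φ) {j : ℕ} (hj : D.N < j) : D.X b j F = 0 := by
  funext g
  obtain ⟨P, hP, h⟩ := D.L_pol_z hF b g
  rw [D.X_apply hF b j h]
  exact coeff_eq_zero_of_natDegree_lt (by omega)

theorem H_big {F : G → k} (hF : F ∈ D.L) {n : ℕ} (hn : D.N < n) : D.H n F = 0 := by
  funext g
  obtain ⟨P, hP, h⟩ := D.L_pol_δ hF g
  rw [D.H_apply hF n h]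
  exact coeff_eq_zero_of_natDegree_lt (by omega)

variable {K : Type*} [Field K] [Fintype K] [Algebra K k] {m : ℕ}
  (hK : Fintype.card K = 2 ^ (2 * m + 1)) {a b c : Φ} (ha : D.ht a < 2 ^ m * D.ht b) (hb : D.ht b < 2 ^ (m + 1) * D.ht a)
  {F : G → k} (hF : F ∈ D.L) {n : ℕ} (hlow : ∀ m' < n, D.H m' F = 0) {i j : ℕ} (hi : i < 2 ^ m) (hj : j < 2 ^ (m + 1))
  (h0 : ¬ (i = 0 ∧ j = 0))

include hK ha hb hF hlow hi hj h0

theorem low_pair (hfix : ∀ (t : K) (g : G),
      F (g * (D.z a (algebraMap K k t) * D.z b (algebraMap K k t ^ 2 ^ (m + 1)))) = F g) :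
    D.X a j (D.X b i (D.H n F)) = 0 := by
  classical
  funext g
  have hbF : ∀ n' i', D.X b i' (D.H n' F) ∈ D.L := fun n' i' => D.X_mem b i' (D.H_mem n' hF)
  -- the identity
  have key : ∀ (t : K) (u : kˣ), ∑ ω ∈ range (D.N + 1) ×ˢ (range (D.N + 1) ×ˢ range (D.N + 1)),
      D.X a ω.2.2 (D.X b ω.2.1 (D.H ω.1 F)) g * (u : k) ^ (ω.1 + D.ht a * ω.2.2 + D.ht b * ω.2.1) *
        (algebraMap K k t) ^ (ω.2.2 + 2 ^ (m + 1) * ω.2.1) =
      (∑ n' ∈ range (D.N + 1), C (D.H n' F g) * X ^ n' : k[X]).eval (u : k) := by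
    intro t u
    obtain ⟨s, hs⟩ : ∃ s, algebraMap K k t = s := ⟨_, rfl⟩
    have h1 : F (g * D.z a ((u : k) ^ D.ht a * s) * D.z b ((u : k) ^ D.ht b * s ^ 2 ^ (m + 1)) * D.δ u) =
        F (g * D.δ u) := by
      rw [mul_assoc, ← D.δ_z, ← mul_assoc, mul_assoc g, ← D.δ_z, ← hs, ← hfix t (g * D.δ u)]
      simp only [mul_assoc]
    have h2 := D.expand_δ hF (g * D.z a ((u : k) ^ D.ht a * s) * D.z b ((u : k) ^ D.ht b * s ^ 2 ^ (m + 1))) u
    rw [h1, D.expand_δ hF g u] at h2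
    rw [eval_finsetSum, Finset.sum_congr rfl (fun n' _ => by rw [eval_mul, eval_C, eval_pow, eval_X] :
      ∀ n' ∈ range (D.N + 1), (C (D.H n' F g) * X ^ n' : k[X]).eval (u : k) = D.H n' F g * (u : k) ^ n'), h2,
      Finset.sum_product]
    refine Finset.sum_congr rfl fun n' _ => ?_
    rw [D.expand_z (D.H_mem n' hF), Finset.sum_product, Finset.sum_mul]
    refine Finset.sum_congr rfl fun i' _ => ?_
    rw [D.expand_z (hbF n' i'), Finset.sum_mul, Finset.sum_mul]
    refine Finset.sum_congr rfl fun j' _ => ?_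
    rw [hs, mul_pow, mul_pow, pow_add, pow_add, pow_add, pow_mul, pow_mul, pow_mul]
    ring
  have h1 := comp hK ha hb (range (D.N + 1) ×ˢ (range (D.N + 1) ×ˢ range (D.N + 1)))
    (fun ω => D.X a ω.2.2 (D.X b ω.2.1 (D.H ω.1 F)) g) (fun ω => ω.1) (fun ω => ω.2.1) (fun ω => ω.2.2) _ key
    (n := n) (fun ω _ hω => by rw [hlow ω.1 hω, map_zero, map_zero]; rfl) hi hj h0
  show D.X a j (D.X b i (D.H n F)) g = 0
  by_cases hn : D.N < n
  · rw [H_big D hF hn, map_zero, map_zero]; rfl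
  by_cases hiN : D.N < i
  · rw [X_big D (D.H_mem n hF) b hiN, map_zero]; rfl
  by_cases hjN : D.N < j
  · rw [X_big D (hbF n i) a hjN]; rfl
  rw [Finset.sum_eq_single (n, i, j)] at h1
  · exact h1
  · rintro ⟨n', i', j'⟩ hω hne
    obtain ⟨-, h2, h3, h4⟩ := Finset.mem_filter.1 hω
    simp only at h2 h3 h4
    exact absurd (by rw [h2, h3, h4]) hne
  · intro hcon
    exfalso
    apply hcon
    simp only [Finset.mem_filter, Finset.mem_product, Finset.mem_range, and_true]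
    omega

theorem low_quad (hc : D.ht c = D.ht a + D.ht b)
    (hck : ∀ l, 0 < l → l < 2 ^ (m + 1) → D.X c l (D.H n F) = 0)
    (hfix : ∀ (t : K) (g : G), F (g * (D.z a (algebraMap K k t) * D.z b (algebraMap K k t ^ 2 ^ (m + 1)) *
      D.z c (algebraMap K k t * algebraMap K k t ^ 2 ^ (m + 1)))) = F g) :
    D.X a j (D.X b i (D.H n F)) = 0 := by
  classical
  funext g
  have hcF : ∀ n' l', D.X c l' (D.H n' F) ∈ D.L := fun n' l' => D.X_mem c l' (D.H_mem n' hF)
  have hbF : ∀ n' l' i', D.X b i' (D.X c l' (D.H n' F)) ∈ D.L := fun n' l' i' => D.X_mem b i' (hcF n' l')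
  -- the identity
  have key : ∀ (t : K) (u : kˣ), ∑ ω ∈ range (D.N + 1) ×ˢ (range (D.N + 1) ×ˢ (range (D.N + 1) ×ˢ range (D.N + 1))),
      D.X a ω.2.2.2 (D.X b ω.2.2.1 (D.X c ω.2.1 (D.H ω.1 F))) g *
        (u : k) ^ (ω.1 + D.ht a * (ω.2.2.2 + ω.2.1) + D.ht b * (ω.2.2.1 + ω.2.1)) *
        (algebraMap K k t) ^ ((ω.2.2.2 + ω.2.1) + 2 ^ (m + 1) * (ω.2.2.1 + ω.2.1)) =
      (∑ n' ∈ range (D.N + 1), C (D.H n' F g) * X ^ n' : k[X]).eval (u : k) := by
    intro t u
    obtain ⟨s, hs⟩ : ∃ s, algebraMap K k t = s := ⟨_, rfl⟩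
    have h1 : F (g * D.z a ((u : k) ^ D.ht a * s) * D.z b ((u : k) ^ D.ht b * s ^ 2 ^ (m + 1)) *
        D.z c ((u : k) ^ D.ht c * (s * s ^ 2 ^ (m + 1))) * D.δ u) = F (g * D.δ u) := by
      rw [mul_assoc, ← D.δ_z, ← mul_assoc, mul_assoc (g * _), ← D.δ_z, ← mul_assoc, mul_assoc g, ← D.δ_z, ← hs,
        ← hfix t (g * D.δ u)]
      simp only [mul_assoc]
    have h2 := D.expand_δ hF (g * D.z a ((u : k) ^ D.ht a * s) * D.z b ((u : k) ^ D.ht b * s ^ 2 ^ (m + 1)) *
        D.z c ((u : k) ^ D.ht c * (s * s ^ 2 ^ (m + 1)))) u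
    rw [h1, D.expand_δ hF g u] at h2
    rw [eval_finsetSum, Finset.sum_congr rfl (fun n' _ => by rw [eval_mul, eval_C, eval_pow, eval_X] :
      ∀ n' ∈ range (D.N + 1), (C (D.H n' F g) * X ^ n' : k[X]).eval (u : k) = D.H n' F g * (u : k) ^ n'), h2,
      Finset.sum_product]
    refine Finset.sum_congr rfl fun n' _ => ?_
    rw [D.expand_z (D.H_mem n' hF), Finset.sum_product, Finset.sum_mul]
    refine Finset.sum_congr rfl fun l' _ => ?_
    rw [D.expand_z (hcF n' l'), Finset.sum_product, Finset.sum_mul, Finset.sum_mul]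
    refine Finset.sum_congr rfl fun i' _ => ?_
    rw [D.expand_z (hbF n' l' i'), Finset.sum_mul, Finset.sum_mul, Finset.sum_mul]
    refine Finset.sum_congr rfl fun j' _ => ?_
    rw [hs, hc]
    simp only [mul_pow, pow_add, mul_add, pow_mul]
    ring
  have h1 := comp hK ha hb (range (D.N + 1) ×ˢ (range (D.N + 1) ×ˢ (range (D.N + 1) ×ˢ range (D.N + 1))))
    (fun ω => D.X a ω.2.2.2 (D.X b ω.2.2.1 (D.X c ω.2.1 (D.H ω.1 F))) g) (fun ω => ω.1)
    (fun ω => ω.2.2.1 + ω.2.1) (fun ω => ω.2.2.2 + ω.2.1) _ key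
    (n := n) (fun ω _ hω => by rw [hlow ω.1 hω, map_zero, map_zero, map_zero]; rfl) hi hj h0
  show D.X a j (D.X b i (D.H n F)) g = 0
  by_cases hn : D.N < n
  · rw [H_big D hF hn, map_zero, map_zero]; rfl
  by_cases hiN : D.N < i
  · rw [X_big D (D.H_mem n hF) b hiN, map_zero]; rfl
  by_cases hjN : D.N < j
  · rw [X_big D (D.X_mem b i (D.H_mem n hF)) a hjN]; rfl
  rw [Finset.sum_eq_single (n, 0, i, j)] at h1
  · simp only at h1
    rw [D.X_zero (D.H_mem n hF)] at h1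
    exact h1
  · rintro ⟨n', l', i', j'⟩ hω hne
    obtain ⟨-, h2, h3, h4⟩ := Finset.mem_filter.1 hω
    simp only at h2 h3 h4 ⊢
    rcases Nat.eq_zero_or_pos l' with hl | hl
    · subst hl
      rw [add_zero] at h3 h4
      exact absurd (by rw [h2, h3, h4]) hne
    · rw [h2, hck l' hl (by omega), map_zero, map_zero]
      rfl
  · intro hcon
    exfalso
    apply hcon
    simp only [Finset.mem_filter, Finset.mem_product, Finset.mem_range, and_true, add_zero]
    omega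

end low

end Cfsg.Agent.H261.TU.Low
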